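import Cfsg.Agent.Spor.He8330.L.D0

set_option autoImplicit false
set_option maxRecDepth 100000000
set_option Elab.async false

namespace Cfsg.Agent.Spor.He8330.L

theorem uok10 : Net.okb 14 un10 = true := by decide +kernel

theorem rel3 : U.rel 14 [21, 18, 1, 17] 0 14 = true := by decide +kernel

theorem rel4 : U.rel 14 [1, 1, 1, 1] 0 14 = true := by decide +kernel

theorem rel5 : U.rel 14 [22, 1, 21, 1] 0 14 = true := by decide +kernel

theorem rel6 : U.rel 14 [1, 5, 1, 5] 0 14 = true := by decide +kernel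

theorem rel7 : U.rel 14 [22, 5, 21, 5] 0 14 = true := by decide +kernel

theorem rel8 : U.rel 14 [1, 7, 1, 7] 0 14 = true := by decide +kernel

theorem rel9 : U.rel 14 [22, 7, 21, 7] 0 14 = true := by decide +kernel

theorem rel10 : U.rel 14 [1, 9, 1, 9] 0 14 = true := by decide +kernel

theorem rel11 : U.rel 14 [22, 9, 21, 9] 0 14 = true := by decide +kernel

theorem rel12 : U.rel 14 [1, 11, 1, 11] 0 14 = true := by decide +kernel

theorem rel13 : U.rel 14 [22, 11, 21, 11] 0 14 = true := by decide +kernel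

theorem rel14 : U.rel 14 [1, 13, 1, 13] 0 14 = true := by decide +kernel

theorem rel15 : U.rel 14 [22, 13, 21, 13] 0 14 = true := by decide +kernel

theorem rel16 : U.rel 14 [22, 18, 1, 17] 0 14 = true := by decide +kernel

theorem rel17 : U.rel 14 [1, 22, 18, 21, 17] 0 14 = true := by decide +kernel

theorem rel18 : U.rel 14 [1, 20, 1, 19] 0 14 = true := by decide +kernel

theorem rel19 : U.rel 14 [1, 22, 20, 21, 19] 0 14 = true := by decide +kernel

theorem uok11 : Net.okb 14 un11 = true := by decide +kernel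

theorem rel20 : U.rel 14 [23, 11, 5, 1, 13, 3, 13, 9, 1, 3] 0 14 = true := by decide +kernel

theorem uok12 : Net.okb 14 un12 = true := by decide +kernel

theorem rel21 : U.rel 14 [25, 1, 9, 3, 11, 1, 7, 3, 11, 13, 3, 5, 13, 7, 1, 7, 1, 7, 13, 3, 9, 7, 11, 5, 9, 1, 9, 11, 9, 3, 13, 1, 13, 7, 3, 1, 5, 11, 13, 5, 3, 7, 5, 13, 3, 1, 3, 13, 7, 1, 9, 11, 7, 1, 7, 11, 9, 7, 5, 7, 5, 11, 1, 9, 5, 1, 3, 5, 3, 5, 1, 3, 9, 7, 3, 1, 11, 7, 5, 1, 13, 11, 9, 11, 13, 1, 3, 5, 7, 5, 3, 7, 5, 7, 13, 7, 5, 7, 5, 3] 0 14 = true := by decide +kernel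

theorem gr23 : sub M22 (U.growI W1 [1, 2, 3, 4, 5, 6, 3, 2, 1, 0, 1, 2, 3, 4, 5, 6, 3, 2, 1, 0, 1, 2, 3, 4, 5, 6, 3, 2, 1, 0, 1, 2, 3, 4, 5, 6, 3, 2, 1, 3, 4, 5, 6] (Nat.shiftLeft 1 0)) = true := by decide +kernel

theorem cl25 : band (U.closedW W1 M22) (sub (Nat.shiftLeft 1 0) M22) = true := by decide +kernel

theorem sz26 : sizeOk 14 M22 8330 = true := by decide +kernel

theorem fx29 : U.closedW W28 (Nat.shiftLeft 1 0) = true := by decide +kernel

theorem uok13 : Net.okb 14 un13 = true := by decide +kernel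

theorem rel30 : U.rel 14 [27, 25, 23, 25, 23, 25, 23, 23, 23, 23, 23, 25, 23, 25, 25, 23, 25, 23, 25, 23, 23] 0 14 = true := by decide +kernel

theorem uok14 : Net.okb 14 un14 = true := by decide +kernel

theorem rel31 : U.rel 14 [29, 25, 23, 23, 25, 23, 23, 25, 23, 23, 23, 23, 25, 25, 23, 25, 23, 23, 23, 25, 25, 23, 25, 25, 25, 23, 25, 23, 25, 23, 23, 25, 25, 23, 23, 25, 23, 23, 23, 23, 25, 25, 23, 25, 23, 25, 23, 23, 25, 23, 23, 23, 25, 25, 23, 23, 25, 23, 25, 23, 25, 25, 23, 25, 25, 25, 25, 23] 0 14 = true := by decide +kernel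

theorem gr33 : sub M32 (U.growI W28 [0, 1, 1, 0, 0, 1, 1, 0, 0, 1, 1, 0, 0, 1, 1, 0, 0, 1, 1, 0, 0, 1, 1, 0] (Nat.shiftLeft 1 111)) = true := by decide +kernel

theorem cl35 : band (U.closedW W28 M32) (sub (Nat.shiftLeft 1 111) M32) = true := by decide +kernel

theorem sz36 : sizeOk 14 M32 4480 = true := by decide +kernel

theorem fx39 : U.closedW W38 (Nat.shiftLeft 1 111) = true := by decide +kernel

theorem gr41 : sub M40 (U.growI W38 [0, 1, 1, 0, 0, 1, 1, 0, 0, 1, 1, 0, 0] (Nat.shiftLeft 1 9)) = true := by decide +kernel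

theorem cl43 : band (U.closedW W38 M40) (sub (Nat.shiftLeft 1 9) M40) = true := by decide +kernel

theorem sz44 : sizeOk 14 M40 108 = true := by decide +kernel

end Cfsg.Agent.Spor.He8330.L
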