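import Cfsg.Agent.Spor.Prim
import Cfsg.Agent.Spor.He8330.Main
import Cfsg.Agent.Spor.He8330.L.C0

set_option autoImplicit false
set_option maxRecDepth 100000000
set_option Elab.async false

namespace Cfsg.Agent.Spor.He8330.L

theorem hU : U.Ok 14 := U.ok_of 14 (show AllP (fun n => Net.okb 14 n = true) [n0, n1, n2, n3, n4, n5, n6, n7, n8, n9, un10, un11, un12, un13, un14] from AllP.cons ok0 (AllP.cons ok1 (AllP.cons ok2 (AllP.cons ok3 (AllP.cons ok4 (AllP.cons ok5 (AllP.cons ok6 (AllP.cons ok7 (AllP.cons ok8 (AllP.cons ok9 (AllP.cons uok10 (AllP.cons uok11 (AllP.cons uok12 (AllP.cons uok13 (AllP.cons uok14 (AllP.nil))))))))))))))))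

theorem hfP : ∀ j < 7, U.fP [1, 3, 5, 7, 9, 11, 13] j = fP j := by
  intro j hj
  interval_cases j <;> rfl
theorem eG : gsub 7 fP = U.lsub W1 := (gsub_congr hfP).symm.trans (lsub_eq_gsub U [1, 3, 5, 7, 9, 11, 13])
theorem upz1 : ev (atm 7 fP) [0] = U.τ 1 := pz1
theorem upz3 : ev (atm 7 fP) [2] = U.τ 3 := pz2
theorem upz5 : ev (atm 7 fP) [4] = U.τ 5 := pz3
theorem upz7 : ev (atm 7 fP) [6] = U.τ 7 := pz4
theorem upz9 : ev (atm 7 fP) [8] = U.τ 9 := pz5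
theorem upz11 : ev (atm 7 fP) [10] = U.τ 11 := pz6
theorem upz13 : ev (atm 7 fP) [12] = U.τ 13 := pz7
theorem upz15 : ev (atm 7 fP) [2, 4, 6, 10, 8, 6, 4] = U.τ 15 := pz8
theorem upz17 : ev (atm 7 fP) [2, 4, 6, 10, 8, 6, 4, 6, 8, 2, 4, 6, 4, 6, 2, 4, 6, 10, 8, 6, 4, 2] = U.τ 17 := pz10
theorem upz19 : ev (atm 7 fP) [0, 2, 0, 2] = U.τ 19 := pz12
theorem eH : wsub 7 fP BW = U.lsub W2 :=
  lsub_eq_of_all₂ (show List.Forall₂ _ [[0], [4], [6], [8], [10], [12], [2, 4, 6, 10, 8, 6, 4, 6, 8, 2, 4, 6, 4, 6, 2, 4, 6, 10, 8, 6, 4, 2], [0, 2, 0, 2]] [[1], [5], [7], [9], [11], [13], [17], [19]] from List.Forall₂.cons (upz1.trans (one_mul _).symm) (List.Forall₂.cons (upz5.trans (one_mul _).symm) (List.Forall₂.cons (upz7.trans (one_mul _).symm) (List.Forall₂.cons (upz9.trans (one_mul _).symm) (List.Forall₂.cons (upz11.trans (one_mul _).symm) (List.Forall₂.cons (upz13.trans (one_mul _).symm)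 (List.Forall₂.cons (upz17.trans (one_mul _).symm) (List.Forall₂.cons (upz19.trans (one_mul _).symm) (List.Forall₂.nil)))))))))
theorem vpz1 : PZ U (atm 7 fP) EXU 1 := pz1
theorem vpz2 : PZ U (atm 7 fP) EXU 2 := PZ.of_inv hiv vpz1 (by decide +kernel)
theorem vpz3 : PZ U (atm 7 fP) EXU 3 := pz2
theorem vpz4 : PZ U (atm 7 fP) EXU 4 := PZ.of_inv hiv vpz3 (by decide +kernel)
theorem vpz5 : PZ U (atm 7 fP) EXU 5 := pz3
theorem vpz6 : PZ U (atm 7 fP) EXU 6 := PZ.of_inv hiv vpz5 (by decide +kernel)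
theorem vpz7 : PZ U (atm 7 fP) EXU 7 := pz4
theorem vpz8 : PZ U (atm 7 fP) EXU 8 := PZ.of_inv hiv vpz7 (by decide +kernel)
theorem vpz9 : PZ U (atm 7 fP) EXU 9 := pz5
theorem vpz10 : PZ U (atm 7 fP) EXU 10 := PZ.of_inv hiv vpz9 (by decide +kernel)
theorem vpz11 : PZ U (atm 7 fP) EXU 11 := pz6
theorem vpz12 : PZ U (atm 7 fP) EXU 12 := PZ.of_inv hiv vpz11 (by decide +kernel)
theorem vpz13 : PZ U (atm 7 fP) EXU 13 := pz7
theorem vpz14 : PZ U (atm 7 fP) EXU 14 := PZ.of_inv hiv vpz13 (by decide +kernel)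
theorem vpz15 : PZ U (atm 7 fP) EXU 15 := pz8
theorem vpz16 : PZ U (atm 7 fP) EXU 16 := PZ.of_inv hiv vpz15 (by decide +kernel)
theorem vpz17 : PZ U (atm 7 fP) EXU 17 := pz10
theorem vpz18 : PZ U (atm 7 fP) EXU 18 := PZ.of_inv hiv vpz17 (by decide +kernel)
theorem vpz19 : PZ U (atm 7 fP) EXU 19 := pz12
theorem vpz20 : PZ U (atm 7 fP) EXU 20 := PZ.of_inv hiv vpz19 (by decide +kernel)
theorem vpz21 : PZ U (atm 7 fP) EXU 21 := PZ.of_def hiv (d := [18, 1, 17]) (AllP.cons vpz18 (AllP.cons vpz1 (AllP.cons vpz17 (AllP.nil)))) (hU.one rel3) (by decide +kernel)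
theorem vpz22 : PZ U (atm 7 fP) EXU 22 := PZ.of_inv hiv vpz21 (by decide +kernel)
theorem hPZU : AllP (PZ U (atm 7 fP) EXU) LU :=
  show AllP (PZ U (atm 7 fP) EXU) [1, 2, 3, 4, 5, 6, 7, 8, 9, 10, 11, 12, 13, 14, 15, 16, 17, 18, 19, 20, 21, 22] from AllP.cons vpz1 (AllP.cons vpz2 (AllP.cons vpz3 (AllP.cons vpz4 (AllP.cons vpz5 (AllP.cons vpz6 (AllP.cons vpz7 (AllP.cons vpz8 (AllP.cons vpz9 (AllP.cons vpz10 (AllP.cons vpz11 (AllP.cons vpz12 (AllP.cons vpz13 (AllP.cons vpz14 (AllP.cons vpz15 (AllP.cons vpz16 (AllP.cons vpz17 (AllP.cons vpz18 (AllP.cons vpz19 (AllP.cons vpz20 (AllP.cons vpz21 (AllP.cons vpz22 (AllP.nil))))))))))))))))))))))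
theorem hXN : ∀ l ∈ XN, ev (atm 7 fP) l = 1 :=
  relAll_sound hiv (W := [[1, 1, 1, 1], [22, 1, 21, 1], [1, 5, 1, 5], [22, 5, 21, 5], [1, 7, 1, 7], [22, 7, 21, 7], [1, 9, 1, 9], [22, 9, 21, 9], [1, 11, 1, 11], [22, 11, 21, 11], [1, 13, 1, 13], [22, 13, 21, 13], [22, 18, 1, 17], [1, 22, 18, 21, 17], [1, 20, 1, 19], [1, 22, 20, 21, 19], [22, 1, 21, 1]]) (rules := [⟨[1, 1, 1, 1], [], 0, true⟩, ⟨[22, 1, 21, 1], [], 1, true⟩, ⟨[1, 5, 1, 5], [], 2, true⟩, ⟨[22, 5, 21, 5], [], 3, true⟩, ⟨[1, 7, 1, 7], [], 4, true⟩, ⟨[22, 7, 21, 7], [], 5, true⟩, ⟨[1, 9, 1, 9], [], 6, true⟩, ⟨[22, 9, 21, 9], [], 7, true⟩, ⟨[1, 11, 1, 11], [], 8, true⟩, ⟨[22, 11, 21, 11], [], 9, true⟩, ⟨[1, 13, 1, 13], [], 10, true⟩, ⟨[22, 13, 21, 13], [], 11, true⟩, ⟨[22, 18, 1, 17], [], 12, true⟩, ⟨[1, 22, 18, 21, 17], [], 13, true⟩, ⟨[1, 20, 1, 19], [], 14, true⟩, ⟨[1, 22, 20, 21, 19], [], 15, true⟩, ⟨[22, 1, 21, 1],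 [], 16, true⟩]) hPZU (AllP.cons (hU.one rel4) (AllP.cons (hU.one rel5) (AllP.cons (hU.one rel6) (AllP.cons (hU.one rel7) (AllP.cons (hU.one rel8) (AllP.cons (hU.one rel9) (AllP.cons (hU.one rel10) (AllP.cons (hU.one rel11) (AllP.cons (hU.one rel12) (AllP.cons (hU.one rel13) (AllP.cons (hU.one rel14) (AllP.cons (hU.one rel15) (AllP.cons (hU.one rel16) (AllP.cons (hU.one rel17) (AllP.cons (hU.one rel18) (AllP.cons (hU.one rel19) (AllP.cons (hU.one rel5) (AllP.nil)))))))))))))))))) (by decide +kernel)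
theorem reach24 : Reach (U.lsub W1) 0 M22 := (Reach.grow hU (Reach.base _ 0) gr23)
theorem orb27 : (orbS (U.lsub W1) 0).ncard = 8330 := reach24.ncard hU cl25 sz26
theorem orb27e : orbS (U.lsub W1) 0 = {c | Nat.testBit M22 c = true} := reach24.orb hU cl25
theorem reach34 : Reach (U.lsub W28) 111 M32 := (Reach.grow hU (Reach.base _ 111) gr33)
theorem orb37 : (orbS (U.lsub W28) 111).ncard = 4480 := reach34.ncard hU cl35 sz36
theorem orb37e : orbS (U.lsub W28) 111 = {c | Nat.testBit M32 c = true} := reach34.orb hU cl35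
theorem reach42 : Reach (U.lsub W38) 9 M40 := (Reach.grow hU (Reach.base _ 9) gr41)
theorem orb45 : (orbS (U.lsub W38) 9).ncard = 108 := reach42.ncard hU cl43 sz44
theorem orb45e : orbS (U.lsub W38) 9 = {c | Nat.testBit M40 c = true} := reach42.orb hU cl43
theorem lb46 : 108 ∣ Nat.card (U.lsub W38) := dvd_card_orb orb45
theorem lb47 : 483840 ∣ Nat.card (U.lsub W28) :=
  dvd_card_step (s := 4480) (M := 108) (B := U.lsub W38) (Tab.lsub_le_all (AllP.cons (mem_of_rel (hU.one rel30) (U.mem_letters (by decide))) (AllP.cons (mem_of_rel (hU.one rel31) (U.mem_letters (by decide))) (AllP.nil)))) (hU.fixes fx39) orb37 lb46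
theorem lb : 4030387200 ∣ Nat.card (U.lsub W1) :=
  dvd_card_step (s := 8330) (M := 483840) (B := U.lsub W28) (Tab.lsub_le_all (AllP.cons (mem_of_rel (hU.one rel20) (U.mem_letters (by decide))) (AllP.cons (mem_of_rel (hU.one rel21) (U.mem_letters (by decide))) (AllP.nil)))) (hU.fixes fx29) orb27 lb47

end Cfsg.Agent.Spor.He8330.L
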